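import Groth.Agent.S10614
import Groth.Agent.H51.LargestOpenInst

/-!
# An open immersion into a separated space which is finite over the base is a closed immersion (helper52)
-/

set_option autoImplicit false
universe u
open CategoryTheory CategoryTheory.Limits AlgebraicGeometry Opposite AlgSp

namespace Groth.Agent.H52.QF

variable {S : Scheme.{u}}

/-- Cancellation: if `j ≫ pr` is universally closed and `pr` is separated then `j` is universally closed. -/
theorem isUnivClosedMor_of_comp {V P U : AlgSp.Space S} (j : V ⟶ P) (pr : P ⟶ U)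
    (hsep : IsSeparatedMor pr.hom) (huc : IsUnivClosedMor (j.hom ≫ pr.hom)) :
    IsUnivClosedMor j.hom := by
  let G : Sp S := pullback (j.hom ≫ pr.hom) pr.hom
  have sqG : IsPullback (pullback.fst (j.hom ≫ pr.hom) pr.hom) (pullback.snd (j.hom ≫ pr.hom) pr.hom)
      (j.hom ≫ pr.hom) pr.hom := IsPullback.of_hasPullback _ _
  have hG : IsAlgSpace G := Groth.Agent.H52.isAlgSpace_of_isPullback sqG U.property.diag V.property P.property
  let Γ : V.obj ⟶ G := pullback.lift (𝟙 _) j.hom (by simp)
  have sqΓ := pullback_lift_diagonal_isPullback j.hom pr.hom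
  have := AlgSp.repWith_isStableUnderBaseChange (S := S) @IsClosedImmersion
  have hΓ : RepWith @IsClosedImmersion Γ := MorphismProperty.of_isPullback sqΓ hsep
  have hΓuc : IsUnivClosedMor Γ :=
    (Groth.Agent.S10614.of_closedImmersion (X := V) (Y := ⟨G, hG⟩) (ObjectProperty.homMk Γ) hΓ).1
  have hsnd : IsUnivClosedMor (pullback.snd (j.hom ≫ pr.hom) pr.hom) :=
    Groth.Agent.H51.univSp_of_isPullback _ sqG huc
  have := Groth.Agent.H51.isUnivClosedMor_comp hG P.property hΓuc hsnd
  rwa [pullback.lift_snd] at this

/-- An open immersion `j : V ⟶ P` with `P` separated over `U` and `V` finite over `U` is a closed immersion. -/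
theorem repWith_isClosedImmersion_of_open_of_finite {V P U : AlgSp.Space S} (j : V ⟶ P) (pr : P ⟶ U)
    (hj : RepWith @IsOpenImmersion j.hom) (hsep : IsSeparatedMor pr.hom)
    (hfin : IsFiniteMor (j ≫ pr).hom) : RepWith @IsClosedImmersion j.hom := by
  have hm : Mono j.hom :=
    Groth.Agent.H50.mono_of_repWith (fun _ _ g (hg : IsOpenImmersion g) => (inferInstance : Mono g)) hj
  have hft : LocP @LocallyOfFiniteType j.hom :=
    Groth.Agent.H51.locP_of_repWith_isOpenImmersion @LocallyOfFiniteType
      (fun _ _ g (hg : Etale g) => (inferInstance : LocallyOfFiniteType g)) j.hom hj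
  have hprop := ((Groth.Agent.S10271.result (j ≫ pr)).1 hfin).2
  have huc : IsUnivClosedMor j.hom := isUnivClosedMor_of_comp j pr hsep hprop.2.2
  exact Groth.Agent.S10614.closedImmersion_of j huc hft hm

end Groth.Agent.H52.QF
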